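import Groth.Agent.P1RadLib.Fibre

/-!
# The two coordinate charts of the line as affine lines
-/

set_option autoImplicit false
set_option linter.style.haveILetI false
universe u

open CategoryTheory CategoryTheory.Limits AlgebraicGeometry MvPolynomial GradedCechLib HomogeneousLocalization

noncomputable section

namespace P1RadLib

open EdP1Lib

variable (K : Type u) [Field K]

/-- The chart ring as a polynomial ring in one variable. -/
def coord (i : Fin 2) : Polynomial K ≃+* Away (CohB1.polyGrading 1 K) (X i : MvPolynomial (Fin 2) K) :=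
  (MvPolynomial.uniqueAlgEquiv K (Fin 1)).symm.toRingEquiv.trans
    (RingEquiv.ofBijective (GenusZeroLib.chartPoly 1 K i) (GenusZeroLib.chartPoly_bijective 1 K i))

theorem coord_C (i : Fin 2) (r : K) : coord K i (Polynomial.C r) = cst 1 K (X i) r := by
  show GenusZeroLib.chartPoly 1 K i ((MvPolynomial.uniqueAlgEquiv K (Fin 1)).symm (algebraMap K _ r)) = _
  rw [AlgEquiv.commutes]
  exact eval₂Hom_C _ _ _

theorem coord_X (i : Fin 2) : coord K i Polynomial.X = deh₀ 1 K i (X (i.succAbove 0)) := by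
  show GenusZeroLib.chartPoly 1 K i ((MvPolynomial.uniqueAlgEquiv K (Fin 1)).symm Polynomial.X) = _
  rw [show (MvPolynomial.uniqueAlgEquiv K (Fin 1)).symm Polynomial.X = X 0 from by simp]
  exact eval₂Hom_X' _ _ _

/-- A chart of the line. -/
def σ (i : Fin 2) : Spec (CommRingCat.of (Polynomial K)) ⟶ P1 K :=
  Spec.map (CommRingCat.ofHom (coord K i).symm.toRingHom) ≫ chartι 1 K i

instance isOpenImmersion_σ (i : Fin 2) : IsOpenImmersion (σ K i) := by
  haveI : IsIso (CommRingCat.ofHom (coord K i).symm.toRingHom) := (coord K i).symm.toCommRingCatIso.isIso_hom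
  haveI : IsOpenImmersion (chartι 1 K i) := inferInstanceAs (IsOpenImmersion (Proj.awayι _ _ _ _))
  exact IsOpenImmersion.comp _ _

theorem range_σ (i : Fin 2) : Set.range (σ K i).base = (QCohLib.stdOpen 1 K i : Set (P1 K)) := by
  haveI : IsOpenImmersion (chartι 1 K i) := inferInstanceAs (IsOpenImmersion (Proj.awayι _ _ _ _))
  haveI : IsIso (CommRingCat.ofHom (coord K i).symm.toRingHom) := (coord K i).symm.toCommRingCatIso.isIso_hom
  rw [show QCohLib.stdOpen 1 K i = (chartι 1 K i).opensRange from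
    (Proj.opensRange_awayι (CohB1.polyGrading 1 K) (X i : MvPolynomial (Fin 2) K) (X_mem 1 K i) one_pos).symm]
  simp only [σ, Scheme.Hom.comp_base, TopCat.coe_comp]
  exact (Spec.map (CommRingCat.ofHom (coord K i).symm.toRingHom)).homeomorph.surjective.range_comp _

theorem σ_toSpec (i : Fin 2) :
    σ K i ≫ CohB1.ProjSpace.toSpec 1 K = Spec.map (CommRingCat.ofHom (algebraMap K (Polynomial K))) := by
  change (Spec.map _ ≫ Proj.awayι _ _ _ _) ≫ Proj.toSpecZero (CohB1.polyGrading 1 K) ≫ _ = _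
  rw [Category.assoc, Proj.awayι_toSpecZero_assoc, ← Spec.map_comp, ← Spec.map_comp]
  congr 1
  refine CommRingCat.hom_ext (RingHom.ext fun r => ?_)
  show (coord K i).symm (cst 1 K (X i) r) = algebraMap K (Polynomial K) r
  rw [RingEquiv.symm_apply_eq]
  exact (coord_C K i r).symm

/-- The change of chart. -/
theorem switch {L : Type u} [CommRing L] (α β : Polynomial K →+* L)
    (hC : ∀ r, α (Polynomial.C r) = β (Polynomial.C r)) (h1 : α Polynomial.X * β Polynomial.X = 1) :
    Spec.map (CommRingCat.ofHom α) ≫ σ K 0 = Spec.map (CommRingCat.ofHom β) ≫ σ K 1 := by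
  let 𝒜 := CohB1.polyGrading 1 K
  let x : MvPolynomial (Fin 2) K := X 0 * X 1
  let m₀ := awayMap 𝒜 (X_mem 1 K 1) (rfl : x = X 0 * X 1)
  let m₁ := awayMap 𝒜 (X_mem 1 K 0) (mul_comm _ _ : x = X 1 * X 0)
  letI := m₀.toAlgebra
  haveI := Away.isLocalization_mul (X_mem 1 K 0) (X_mem 1 K 1) (rfl : x = X 0 * X 1) one_ne_zero
  have he : Away.isLocalizationElem (X_mem 1 K 0) (X_mem 1 K 1) = coord K 0 Polynomial.X := by
    rw [coord_X]
    refine HomogeneousLocalization.val_injective _ ?_
    rw [val_deh₀_X]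
    show Localization.mk _ _ = _
    congr 1
    exact pow_one _
  let α' : Away 𝒜 (X 0 : MvPolynomial (Fin 2) K) →+* L := α.comp (coord K 0).symm.toRingHom
  have hu : IsUnit (α' (Away.isLocalizationElem (X_mem 1 K 0) (X_mem 1 K 1))) := by
    rw [he]
    simpa [α'] using IsUnit.of_mul_eq_one _ h1
  let θ : Away 𝒜 x →+* L := IsLocalization.Away.lift (Away.isLocalizationElem (X_mem 1 K 0) (X_mem 1 K 1)) hu
  have h0 : θ.comp m₀ = α' := IsLocalization.Away.lift_comp _ hu
  have h1' : θ.comp m₁ = β.comp (coord K 1).symm.toRingHom := by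
    suffices hs : (θ.comp m₁).comp (coord K 1).toRingHom = β by
      refine RingHom.ext fun z => ?_
      simpa using RingHom.congr_fun hs ((coord K 1).symm z)
    refine Polynomial.ringHom_ext (fun r => ?_) ?_
    · show θ (m₁ (coord K 1 (Polynomial.C r))) = _
      rw [coord_C]
      have e : m₁ (cst 1 K (X 1) r) = m₀ (cst 1 K (X 0) r) := by
        show awayMap 𝒜 _ _ (fromZeroRingHom 𝒜 _ _) = awayMap 𝒜 _ _ (fromZeroRingHom 𝒜 _ _)
        rw [awayMap_fromZeroRingHom, awayMap_fromZeroRingHom]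
      rw [e, ← RingHom.comp_apply θ m₀, h0, ← coord_C]
      simpa [α'] using hC r
    · show θ (m₁ (coord K 1 Polynomial.X)) = _
      have e : m₀ (coord K 0 Polynomial.X) * m₁ (coord K 1 Polynomial.X) = 1 := by
        refine HomogeneousLocalization.val_injective _ ?_
        rw [coord_X, coord_X, deh₀_X, deh₀_X, HomogeneousLocalization.val_mul, HomogeneousLocalization.val_one]
        erw [val_awayMap_mk, val_awayMap_mk]
        rw [Localization.mk_mul, ← Localization.mk_one, Localization.mk_eq_mk_iff, Localization.r_iff_exists]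
        refine ⟨1, ?_⟩
        simp only [OneMemClass.coe_one, Submonoid.coe_mul, one_mul]
        show X ((0 : Fin 2).succAbove 0) * X 1 ^ 1 * (X ((1 : Fin 2).succAbove 0) * X 0 ^ 1) = x ^ 1 * x ^ 1 * 1
        rw [show (0 : Fin 2).succAbove 0 = 1 from rfl, show (1 : Fin 2).succAbove 0 = 0 from rfl]
        ring
      have e' := congrArg θ e
      rw [map_mul, map_one, ← RingHom.comp_apply θ m₀, h0] at e'
      have e'' : α Polynomial.X * θ (m₁ (coord K 1 Polynomial.X)) = 1 := by simpa [α'] using e'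
      exact (IsUnit.of_mul_eq_one _ h1).mul_left_cancel (e''.trans h1.symm)
  have key₀ := Proj.SpecMap_awayMap_awayι 𝒜 (X_mem 1 K 0) one_pos (X_mem 1 K 1) (rfl : x = X 0 * X 1)
  have key₁ := Proj.SpecMap_awayMap_awayι 𝒜 (X_mem 1 K 1) one_pos (X_mem 1 K 0) (mul_comm _ _ : x = X 1 * X 0)
  change Spec.map _ ≫ Spec.map _ ≫ chartι 1 K 0 = Spec.map _ ≫ Spec.map _ ≫ chartι 1 K 1
  rw [← Spec.map_comp_assoc, ← Spec.map_comp_assoc, ← CommRingCat.ofHom_comp, ← CommRingCat.ofHom_comp]
  rw [show α.comp (coord K 0).symm.toRingHom = θ.comp m₀ from h0.symm, ← h1', CommRingCat.ofHom_comp,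
    CommRingCat.ofHom_comp, Spec.map_comp_assoc, Spec.map_comp_assoc]
  exact congrArg (Spec.map (CommRingCat.ofHom θ) ≫ ·) (key₀.trans key₁.symm)

/-- Maps into a chart are coordinate values. -/
theorem exists_coord (i : Fin 2) {A : Type u} [CommRing A] (f : Spec (CommRingCat.of A) ⟶ P1 K)
    (hf : Set.range f.base ⊆ (QCohLib.stdOpen 1 K i : Set (P1 K))) :
    ∃ α : Polynomial K →+* A, Spec.map (CommRingCat.ofHom α) ≫ σ K i = f := by
  obtain ⟨α, hα⟩ := Spec.map_surjective (IsOpenImmersion.lift (σ K i) f (by rw [range_σ]; exact hf))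
  exact ⟨α.hom, (congrArg (· ≫ σ K i) hα).trans (IsOpenImmersion.lift_fac _ _ _)⟩

theorem coord_ext (i : Fin 2) {A : Type u} [CommRing A] {α β : Polynomial K →+* A}
    (h : Spec.map (CommRingCat.ofHom α) ≫ σ K i = Spec.map (CommRingCat.ofHom β) ≫ σ K i) : α = β := by
  rw [cancel_mono] at h
  exact congrArg CommRingCat.Hom.hom (Spec.map_injective h)

end P1RadLib
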