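import Groth.Agent.EdP1Lib.Std
import Mathlib.AlgebraicGeometry.Morphisms.UniversallyInjective
import Mathlib.AlgebraicGeometry.AlgClosed.Basic

/-!
# A point with radicial residue field on the line over an algebraically closed extension
-/

set_option autoImplicit false
set_option linter.style.haveILetI false
universe u

open CategoryTheory CategoryTheory.Limits AlgebraicGeometry MvPolynomial GradedCechLib

noncomputable section

namespace P1RadLib

open EdP1Lib

variable {k : Type u} [Field k] {K : Type u} [Field K] [Algebra k K]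

attribute [local instance] MvPolynomial.algebraMvPolynomial

/-- A radicial point stays one point. -/
theorem subsingleton_fibre {X Y X' Y' : Scheme.{u}} (f : X ⟶ Y) (P : X)
    (hpi : (f.residueFieldMap P).hom.IsPurelyInseparable)
    {j : X' ⟶ X} {f' : X' ⟶ Y'} {g : Y' ⟶ Y} (h : IsPullback j f' f g) [Subsingleton Y'] :
    (j ⁻¹' {P}).Subsingleton := by
  have h0 : UniversallyInjective (X.fromSpecResidueField P ≫ f) := by
    rw [← Scheme.Hom.SpecMap_residueFieldMap_fromSpecResidueField]
    haveI : UniversallyInjective (Spec.map (f.residueFieldMap P)) := by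
      refine ((tfae_universallyInjective (Spec.map (f.residueFieldMap P))).out 0 1).2 ?_
      intro L _ g₁ g₂ hg
      obtain ⟨φ₁, rfl⟩ := Spec.map_surjective g₁
      obtain ⟨φ₂, rfl⟩ := Spec.map_surjective g₂
      simp only [← Spec.map_comp] at hg
      have h' := congrArg CommRingCat.Hom.hom (Spec.map_injective hg)
      letI := (f.residueFieldMap P).hom.toAlgebra
      haveI : IsPurelyInseparable (Y.residueField (f P)) (X.residueField P) := hpi
      exact congrArg Spec.map (CommRingCat.hom_ext
        (IsPurelyInseparable.injective_comp_algebraMap (Y.residueField (f P)) (X.residueField P) L h'))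
    exact (MorphismProperty.comp_mem @UniversallyInjective _ _ inferInstance inferInstance)
  have h1 : UniversallyInjective (pullback.fst j (X.fromSpecResidueField P) ≫ f') :=
    MorphismProperty.of_isPullback ((IsPullback.of_hasPullback j (X.fromSpecResidueField P)).flip.paste_vert h) h0
  intro a ha b hb
  have hr := Scheme.Pullback.range_fst j (X.fromSpecResidueField P)
  rw [Scheme.range_fromSpecResidueField] at hr
  obtain ⟨a', rfl⟩ := (hr.ge ha)
  obtain ⟨b', rfl⟩ := (hr.ge hb)
  exact congrArg _ ((pullback.fst j (X.fromSpecResidueField P) ≫ f').injective (Subsingleton.elim _ _))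

/-- A closed point with radicial residue field: the line minus its preimage is the affine line. -/
theorem exists_complement (P : P1 k) (hP : IsClosed ({P} : Set (P1 k))) [IsAlgClosed K]
    (hpi : ((CohB1.ProjSpace.toSpec 1 k).residueFieldMap P).hom.IsPurelyInseparable) :
    ∃ (j : P1 K ⟶ P1 k) (_ : IsPullback j (CohB1.ProjSpace.toSpec 1 K) (CohB1.ProjSpace.toSpec 1 k)
      (Spec.map (CommRingCat.ofHom (algebraMap k K)))) (e : P1 K ≅ P1 K),
      e.hom ≫ CohB1.ProjSpace.toSpec 1 K = CohB1.ProjSpace.toSpec 1 K ∧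
      e.hom ⁻¹ᵁ QCohLib.stdOpen 1 K 0 = j ⁻¹ᵁ ⟨{P}ᶜ, hP.isOpen_compl⟩ := by
  obtain ⟨j, hj, -⟩ := exists_bc k (algebraMap k K)
  haveI : Smooth (CohB1.ProjSpace.toSpec 1 K) := GenusZeroLib.smooth_toSpec 1 K
  have hsub := subsingleton_fibre _ P hpi hj
  haveI : Surjective j := MorphismProperty.of_isPullback hj.flip
    (inferInstance : Surjective (Spec.map (CommRingCat.ofHom (algebraMap k K))))
  obtain ⟨y, hy⟩ := j.surjective P
  have hset : j ⁻¹' {P} = {y} := hsub.eq_singleton_of_mem hy
  have hyc : IsClosed ({y} : Set (P1 K)) := hset ▸ hP.preimage j.continuous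
  let w := pointOfClosedPoint (CohB1.ProjSpace.toSpec 1 K) y hyc
  let x : Spec (CommRingCat.of K) := IsLocalRing.closedPoint K
  obtain ⟨e, he, hout⟩ := exists_aut_pts K (n := 1) (by norm_num) (fun _ => w)
    (fun _ => pointOfClosedPoint_comp _ _ _) x (fun a b hab => absurd (Subsingleton.elim a b) hab)
  have hey : e.hom y ∉ QCohLib.stdOpen 1 K 0 := by
    have := hout 0
    rwa [pointOfClosedPoint_apply] at this
  refine ⟨j, hj, e, he, TopologicalSpace.Opens.ext (Set.ext fun z => ?_)⟩
  show e.hom z ∈ QCohLib.stdOpen 1 K 0 ↔ z ∉ j ⁻¹' {P}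
  rw [hset, Set.mem_singleton_iff]
  exact ⟨fun hz hzy => hey (hzy ▸ hz), fun hzy => by_contra fun hz => hzy (e.hom.homeomorph.injective
    (unique_zero K 0 hz hey))⟩

/-- The chart is the affine line over the base. -/
theorem exists_chart_iso : ∃ e : (QCohLib.stdOpen 1 K 0).toScheme ≅ Spec (CommRingCat.of (Polynomial K)),
    e.hom ≫ Spec.map (CommRingCat.ofHom (algebraMap K (Polynomial K))) =
      (QCohLib.stdOpen 1 K 0).ι ≫ CohB1.ProjSpace.toSpec 1 K := by
  let c := RingEquiv.ofBijective (GenusZeroLib.chartPoly 1 K 0) (GenusZeroLib.chartPoly_bijective 1 K 0)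
  let m : Polynomial K ≃ₐ[K] MvPolynomial (Fin 1) K := (MvPolynomial.uniqueAlgEquiv K (Fin 1)).symm
  let a := m.toRingEquiv.trans c
  let g : Spec (CommRingCat.of (Polynomial K)) ⟶ P1 K := Spec.map (CommRingCat.ofHom a.symm.toRingHom) ≫ chartι 1 K 0
  haveI : IsIso (CommRingCat.ofHom a.symm.toRingHom) := a.symm.toCommRingCatIso.isIso_hom
  haveI : IsOpenImmersion (chartι 1 K 0) := inferInstanceAs (IsOpenImmersion (Proj.awayι _ _ _ _))
  haveI : IsOpenImmersion g := IsOpenImmersion.comp _ _
  have hr : Set.range g.base = Set.range (QCohLib.stdOpen 1 K 0).ι.base := by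
    have hs : Function.Surjective (Spec.map (CommRingCat.ofHom a.symm.toRingHom)).base :=
      (Spec.map (CommRingCat.ofHom a.symm.toRingHom)).homeomorph.surjective
    rw [Scheme.Opens.range_ι, show QCohLib.stdOpen 1 K 0 = (chartι 1 K 0).opensRange from
      (Proj.opensRange_awayι (CohB1.polyGrading 1 K) (X 0 : MvPolynomial (Fin 2) K) (X_mem 1 K 0) one_pos).symm]
    simp only [g, Scheme.Hom.comp_base, TopCat.coe_comp]
    exact hs.range_comp _
  let e := (IsOpenImmersion.isoOfRangeEq g (QCohLib.stdOpen 1 K 0).ι hr).symm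
  refine ⟨e, ?_⟩
  rw [← cancel_epi e.inv, Iso.inv_hom_id_assoc]
  have he : e.inv ≫ (QCohLib.stdOpen 1 K 0).ι = g := IsOpenImmersion.isoOfRangeEq_hom_fac g _ hr
  rw [← Category.assoc, he]
  change _ = (Spec.map _ ≫ Proj.awayι _ _ _ _) ≫ Proj.toSpecZero (CohB1.polyGrading 1 K) ≫ _
  rw [Category.assoc, Proj.awayι_toSpecZero_assoc, ← Spec.map_comp, ← Spec.map_comp]
  congr 1
  refine CommRingCat.hom_ext (RingHom.ext fun r => ?_)
  change algebraMap K (Polynomial K) r = a.symm (cst 1 K (X 0) r)
  rw [RingEquiv.eq_symm_apply]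
  show c (m (algebraMap K (Polynomial K) r)) = _
  rw [m.commutes]
  show GenusZeroLib.chartPoly 1 K 0 (MvPolynomial.C r) = _
  exact eval₂Hom_C _ _ _

end P1RadLib
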