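import Groth.Agent.P1RadLib.Chart
import Groth.Agent.GenusZeroLib.PSpace
import Mathlib.RingTheory.AdjoinRoot
import Mathlib.RingTheory.IsTensorProduct

/-!
# Automorphisms of the line fixing a radicial fat point of degree at least three
-/

set_option autoImplicit false
set_option linter.style.haveILetI false
set_option maxHeartbeats 1600000
universe u

open CategoryTheory CategoryTheory.Limits AlgebraicGeometry
open scoped TensorProduct

noncomputable section

namespace P1RadLib

open EdP1Lib

variable {K : Type u} [Field K]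

/-- The origin of the second chart lies outside the first. -/
theorem eval_mem [IsAlgClosed K] (r : K) (hr : ∀ x, (Spec.map (CommRingCat.ofHom (Polynomial.evalRingHom r)) ≫ σ K 1).base x ∉
    QCohLib.stdOpen 1 K 0) : r = 0 := by
  by_contra h
  have hsw := switch K (Polynomial.evalRingHom r⁻¹) (Polynomial.evalRingHom r) (fun s => by simp)
    (by simp [inv_mul_cancel₀ h])
  let x : Spec (CommRingCat.of K) := IsLocalRing.closedPoint K
  refine hr x ?_
  rw [← hsw, Scheme.Hom.comp_apply]
  exact (range_σ K 0).le ⟨_, rfl⟩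

/-- The ideal of a fat point at the origin. -/
theorem X_pow_dvd [IsAlgClosed K] {B : Type u} [CommRing B] [Algebra K B] (α : Polynomial K →ₐ[K] B)
    (hα : Function.Surjective α) (h3 : 3 ≤ Module.finrank K B)
    (hy : ∀ x, (Spec.map (CommRingCat.ofHom α.toRingHom) ≫ σ K 1).base x ∉ QCohLib.stdOpen 1 K 0) :
    ∃ d : ℕ, 3 ≤ d ∧ ∀ p, α p = 0 ↔ Polynomial.X ^ d ∣ p := by
  obtain ⟨g, hg⟩ := (IsPrincipalIdealRing.principal (RingHom.ker α.toRingHom)).principal
  have hker : RingHom.ker α.toRingHom = Ideal.span {g} := hg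
  let e : (Polynomial K ⧸ Ideal.span {g}) ≃ₐ[K] B :=
    (Ideal.quotientEquivAlgOfEq K hker.symm).trans (Ideal.quotientKerAlgEquivOfSurjective hα)
  have hg0 : g ≠ 0 := by
    rintro rfl
    haveI : FiniteDimensional K B := FiniteDimensional.of_finrank_pos (by omega)
    have hinj : Function.Injective α.toLinearMap := (injective_iff_map_eq_zero α).2 fun p hp => by
      have : p ∈ RingHom.ker α.toRingHom := hp
      rw [hker, Ideal.span_singleton_zero, Ideal.mem_bot] at this
      exact this
    haveI := Module.Finite.of_injective α.toLinearMap hinj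
    exact Polynomial.not_finite (R := K) inferInstance
  have hd : g.natDegree = Module.finrank K B := by
    rw [← e.toLinearEquiv.finrank_eq]
    exact ((AdjoinRoot.powerBasis hg0).finrank).symm
  have hroot : ∀ r, g.IsRoot r → r = 0 := by
    intro r hr
    apply eval_mem r
    intro x
    have hf : Ideal.span {g} ≤ RingHom.ker (Polynomial.evalRingHom r) :=
      (Ideal.span_singleton_le_iff_mem _).2 hr
    let β : B →+* K := (Ideal.Quotient.lift _ (Polynomial.evalRingHom r) hf).comp e.symm.toRingHom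
    have hβ : β.comp α.toRingHom = Polynomial.evalRingHom r := RingHom.ext fun p => by
      have : e.symm (α p) = Ideal.Quotient.mk _ p := e.symm_apply_eq.2 rfl
      show Ideal.Quotient.lift _ _ hf (e.symm (α p)) = _
      rw [this, Ideal.Quotient.lift_mk]
    rw [← hβ, CommRingCat.ofHom_comp, Spec.map_comp_assoc, Scheme.Hom.comp_apply]
    exact hy _
  refine ⟨g.natDegree, hd ▸ h3, fun p => ?_⟩
  have hsplit := IsAlgClosed.splits g
  have hgX : g = Polynomial.C g.leadingCoeff * Polynomial.X ^ g.natDegree := by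
    conv_lhs => rw [hsplit.eq_prod_roots]
    congr 1
    have hall : ∀ r ∈ g.roots, r = 0 := fun r hr => hroot r (Polynomial.isRoot_of_mem_roots hr)
    rw [Multiset.eq_replicate_card.2 hall, Multiset.map_replicate, Multiset.prod_replicate, map_zero, sub_zero,
      hsplit.natDegree_eq_card_roots]
  show α.toRingHom p = 0 ↔ _
  rw [← RingHom.mem_ker, hker, Ideal.mem_span_singleton]
  conv_lhs => rw [hgX]
  exact (IsUnit.mul_left_dvd ((isUnit_iff_ne_zero.2 (Polynomial.leadingCoeff_ne_zero.2 hg0)).map Polynomial.C))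

/-- An automorphism of the line preserving the first chart is affine there. -/
theorem exists_affine (ψ : P1 K ≅ P1 K) (hψ : ψ.hom ≫ CohB1.ProjSpace.toSpec 1 K = CohB1.ProjSpace.toSpec 1 K)
    (h0 : ψ.hom ⁻¹ᵁ QCohLib.stdOpen 1 K 0 = QCohLib.stdOpen 1 K 0) :
    ∃ (f : Polynomial K →+* Polynomial K) (a b : K), a ≠ 0 ∧ (∀ r, f (Polynomial.C r) = Polynomial.C r) ∧
      f Polynomial.X = Polynomial.C a * Polynomial.X + Polynomial.C b ∧
      Spec.map (CommRingCat.ofHom f) ≫ σ K 0 = σ K 0 ≫ ψ.hom := by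
  have hψ' : ψ.inv ≫ CohB1.ProjSpace.toSpec 1 K = CohB1.ProjSpace.toSpec 1 K := by
    rw [Iso.inv_comp_eq, hψ]
  have hr : ∀ x, (σ K 0).base x ∈ QCohLib.stdOpen 1 K 0 := fun x => (range_σ K 0).le ⟨x, rfl⟩
  have h1 : Set.range (σ K 0 ≫ ψ.hom).base ⊆ (QCohLib.stdOpen 1 K 0 : Set (P1 K)) := by
    rintro _ ⟨x, rfl⟩
    exact (h0.ge (hr x) : (σ K 0).base x ∈ ψ.hom ⁻¹ᵁ QCohLib.stdOpen 1 K 0)
  have h2 : Set.range (σ K 0 ≫ ψ.inv).base ⊆ (QCohLib.stdOpen 1 K 0 : Set (P1 K)) := by
    rintro _ ⟨x, rfl⟩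
    suffices hm : (σ K 0 ≫ ψ.inv).base x ∈ ψ.hom ⁻¹ᵁ QCohLib.stdOpen 1 K 0 from h0.le hm
    show ψ.hom.base ((σ K 0 ≫ ψ.inv).base x) ∈ QCohLib.stdOpen 1 K 0
    rw [← Scheme.Hom.comp_apply, Category.assoc, ψ.inv_hom_id, Category.comp_id]
    exact hr x
  obtain ⟨f, hf⟩ := exists_coord K 0 _ h1
  obtain ⟨t, ht⟩ := exists_coord K 0 _ h2
  have hC : ∀ (w : P1 K ⟶ P1 K), w ≫ CohB1.ProjSpace.toSpec 1 K = CohB1.ProjSpace.toSpec 1 K →
      ∀ g : Polynomial K →+* Polynomial K, Spec.map (CommRingCat.ofHom g) ≫ σ K 0 = σ K 0 ≫ w →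
        ∀ r, g (Polynomial.C r) = Polynomial.C r := by
    intro w hw g hg r
    have h := congrArg (· ≫ CohB1.ProjSpace.toSpec 1 K) hg
    simp only [Category.assoc, hw, σ_toSpec, ← Spec.map_comp] at h
    exact RingHom.congr_fun (congrArg CommRingCat.Hom.hom (Spec.map_injective h)) r
  have hfC := hC _ hψ f hf
  have htC := hC _ hψ' t ht
  have htf : t.comp f = RingHom.id _ := by
    refine coord_ext K 0 ?_
    rw [CommRingCat.ofHom_comp, Spec.map_comp_assoc, hf, ← Category.assoc, ht, Category.assoc, ψ.inv_hom_id,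
      Category.comp_id, CommRingCat.ofHom_id, Spec.map_id, Category.id_comp]
  have hcomp : (f Polynomial.X).comp (t Polynomial.X) = Polynomial.X := by
    have hte : t = (Polynomial.aeval (t Polynomial.X) : Polynomial K →ₐ[K] Polynomial K).toRingHom :=
      Polynomial.ringHom_ext (fun r => by simpa using htC r) (by simp)
    have h := RingHom.congr_fun htf Polynomial.X
    rw [RingHom.comp_apply, RingHom.id_apply, hte] at h
    rw [Polynomial.comp_eq_aeval]
    exact h
  have hdeg := congrArg Polynomial.natDegree hcomp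
  rw [Polynomial.natDegree_comp, Polynomial.natDegree_X, mul_eq_one] at hdeg
  obtain ⟨a, ha, b, hab⟩ := Polynomial.natDegree_eq_one.1 hdeg.1
  exact ⟨f, a, b, ha, hfC, hab.symm, hf⟩

/-- The automorphism is trivial. -/
theorem eq_id [IsAlgClosed K] (ψ : P1 K ≅ P1 K)
    (hψ : ψ.hom ≫ CohB1.ProjSpace.toSpec 1 K = CohB1.ProjSpace.toSpec 1 K) {B : Type u} [CommRing B] [Algebra K B]
    (c : Spec (CommRingCat.of B) ⟶ P1 K) [IsClosedImmersion c]
    (hc : c ≫ CohB1.ProjSpace.toSpec 1 K = Spec.map (CommRingCat.ofHom (algebraMap K B)))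
    (hout : ∀ x, c.base x ∉ QCohLib.stdOpen 1 K 0) (h3 : 3 ≤ Module.finrank K B) (hfix : c ≫ ψ.hom = c) :
    ψ.hom = 𝟙 _ := by
  have hcr : Set.range c.base ⊆ (QCohLib.stdOpen 1 K 1 : Set (P1 K)) := by
    rintro _ ⟨x, rfl⟩
    exact (zero_or_one K _).resolve_left (hout x)
  obtain ⟨α₀, hα₀⟩ := exists_coord K 1 c hcr
  have hα₀C : ∀ r, α₀ (Polynomial.C r) = algebraMap K B r := fun r => by
    have h := congrArg (· ≫ CohB1.ProjSpace.toSpec 1 K) hα₀
    simp only [Category.assoc, hc, σ_toSpec, ← Spec.map_comp] at h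
    exact RingHom.congr_fun (congrArg CommRingCat.Hom.hom (Spec.map_injective h)) r
  let α : Polynomial K →ₐ[K] B := { α₀ with commutes' := hα₀C }
  have hαs : Function.Surjective α := by
    haveI : IsClosedImmersion (Spec.map (CommRingCat.ofHom α₀) ≫ σ K 1) := by rw [hα₀]; infer_instance
    haveI : IsClosedImmersion (Spec.map (CommRingCat.ofHom α₀)) := IsClosedImmersion.of_comp _ (σ K 1)
    have h := (IsClosedImmersion.isAffine_surjective_of_isAffine (Spec.map (CommRingCat.ofHom α₀))).2
    intro z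
    obtain ⟨y, hy⟩ := h ((Scheme.ΓSpecIso (CommRingCat.of B)).inv z)
    refine ⟨(Scheme.ΓSpecIso (CommRingCat.of (Polynomial K))).hom y, ?_⟩
    have := congrArg (Scheme.ΓSpecIso (CommRingCat.of B)).hom hy
    rw [← ConcreteCategory.comp_apply, Scheme.ΓSpecIso_naturality, ConcreteCategory.comp_apply,
      Iso.inv_hom_id_apply] at this
    exact this
  obtain ⟨d, hd, hker⟩ := X_pow_dvd α hαs h3 (fun x => by
    show (Spec.map (CommRingCat.ofHom α₀) ≫ σ K 1).base x ∉ _
    rw [hα₀]; exact hout x)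
  -- the fixed point
  haveI : Nontrivial B := Module.nontrivial_of_finrank_pos (R := K) (by omega)
  obtain ⟨x₀⟩ : Nonempty ↥(Spec (CommRingCat.of B)) := inferInstanceAs (Nonempty (PrimeSpectrum B))
  let y := c.base x₀
  have hyψ : ψ.hom.base y = y := by
    show ψ.hom.base (c.base x₀) = c.base x₀
    rw [← Scheme.Hom.comp_apply, hfix]
  have h0 : ψ.hom ⁻¹ᵁ QCohLib.stdOpen 1 K 0 = QCohLib.stdOpen 1 K 0 := by
    refine TopologicalSpace.Opens.ext (Set.ext fun z => ?_)
    have hu : ∀ z, z ∉ QCohLib.stdOpen 1 K 0 ↔ z = y :=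
      fun z => ⟨fun hz => unique_zero K 0 hz (hout x₀), fun hz => hz ▸ hout x₀⟩
    refine not_iff_not.1 ((hu _).trans (Iff.trans ?_ (hu z).symm))
    exact ⟨fun h => ψ.hom.homeomorph.injective (h.trans hyψ.symm), fun h => h ▸ hyψ⟩
  obtain ⟨f, a, b, ha, hfC, hfX, hf⟩ := exists_affine ψ hψ h0
  -- near the fixed point
  haveI hP : (Ideal.span {(Polynomial.X : Polynomial K)}).IsPrime :=
    (Ideal.span_singleton_prime Polynomial.X_ne_zero).2 Polynomial.prime_X
  let P := Ideal.span {(Polynomial.X : Polynomial K)}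
  let A := Localization.AtPrime P
  let η : A →+* FractionRing (Polynomial K) := IsLocalization.lift (M := P.primeCompl)
    (g := algebraMap (Polynomial K) (FractionRing (Polynomial K))) fun s => isUnit_iff_ne_zero.2
      ((map_ne_zero_iff _ (IsFractionRing.injective _ _)).2 fun h => s.2 (h ▸ P.zero_mem))
  have hunit : ∀ s : P.primeCompl, IsUnit (α (s : Polynomial K)) := fun s => by
    have hco : IsCoprime (Polynomial.X ^ d) (s : Polynomial K) :=
      ((Polynomial.prime_X.coprime_iff_not_dvd).2 fun h => s.2 (Ideal.mem_span_singleton.2 h)).pow_left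
    obtain ⟨p, q, hpq⟩ := hco
    refine IsUnit.of_mul_eq_one_right (α q) ?_
    have h := congrArg α hpq
    rwa [map_add, map_mul, map_mul, (hker _).2 dvd_rfl, mul_zero, zero_add, map_one] at h
  let π : A →+* B := IsLocalization.lift (M := P.primeCompl) (g := α.toRingHom) hunit
  have hπ : π.comp (algebraMap (Polynomial K) A) = α₀ := RingHom.ext fun p => IsLocalization.lift_eq _ p
  let ι := Spec.map (CommRingCat.ofHom (algebraMap (Polynomial K) A)) ≫ σ K 1
  have hcι : Spec.map (CommRingCat.ofHom π) ≫ ι = c := by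
    rw [← Category.assoc, ← Spec.map_comp, ← CommRingCat.ofHom_comp, hπ, hα₀]
  have hclosed : (Spec.map (CommRingCat.ofHom π)).base x₀ = IsLocalRing.closedPoint A := by
    have hq : P ≤ (x₀ : PrimeSpectrum B).asIdeal.comap α₀ := by
      rw [Ideal.span_singleton_le_iff_mem]
      refine (x₀ : PrimeSpectrum B).isPrime.mem_of_pow_mem d ?_
      rw [← map_pow]
      show α (Polynomial.X ^ d) ∈ _
      rw [(hker _).2 dvd_rfl]
      exact Ideal.zero_mem _
    refine PrimeSpectrum.ext ((IsLocalRing.maximalIdeal.isMaximal A).eq_of_le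
      (Spec.map (CommRingCat.ofHom π) x₀).isPrime.ne_top ?_).symm
    rw [← Localization.AtPrime.map_eq_maximalIdeal, Ideal.map_le_iff_le_comap]
    intro p hp
    show π (algebraMap _ _ p) ∈ (x₀ : PrimeSpectrum B).asIdeal
    rw [← RingHom.comp_apply, hπ]
    exact hq hp
  have hι1 : Set.range (ι ≫ ψ.hom).base ⊆ (QCohLib.stdOpen 1 K 1 : Set (P1 K)) := by
    rintro _ ⟨z, rfl⟩
    have hs : (ι ≫ ψ.hom).base z ⤳ (ι ≫ ψ.hom).base (IsLocalRing.closedPoint A) :=
      (IsLocalRing.specializes_closedPoint (z : PrimeSpectrum A)).map (ι ≫ ψ.hom).continuous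
    refine hs.mem_open (QCohLib.stdOpen 1 K 1).isOpen ?_
    rw [← hclosed, ← Scheme.Hom.comp_apply, ← Category.assoc, hcι, hfix]
    exact hcr ⟨x₀, rfl⟩
  obtain ⟨g, hg⟩ := exists_coord K 1 _ hι1
  have hgX : π (g Polynomial.X) = α Polynomial.X := by
    have h : π.comp g = α₀ := coord_ext K 1 (by
      rw [CommRingCat.ofHom_comp, Spec.map_comp_assoc, hg, ← Category.assoc, hcι, hfix, hα₀])
    exact RingHom.congr_fun h Polynomial.X
  have hgC : ∀ r, g (Polynomial.C r) = algebraMap (Polynomial K) A (Polynomial.C r) := fun r => by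
    have h := congrArg (· ≫ CohB1.ProjSpace.toSpec 1 K) hg
    simp only [ι, Category.assoc, hψ, σ_toSpec, ← Spec.map_comp] at h
    exact RingHom.congr_fun (congrArg CommRingCat.Hom.hom (Spec.map_injective h)) r
  -- the generic point
  let L := FractionRing (Polynomial K)
  let ιL := algebraMap (Polynomial K) L
  have hs0 : ιL Polynomial.X ≠ 0 := (map_ne_zero_iff _ (IsFractionRing.injective _ _)).2 Polynomial.X_ne_zero
  let κ : K →+* L := ιL.comp Polynomial.C
  let v := κ a * (ιL Polynomial.X)⁻¹ + κ b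
  let n : Polynomial K := Polynomial.C a + Polynomial.C b * Polynomial.X
  have hn : n ≠ 0 := fun h => ha (by simpa [n] using congrArg (Polynomial.coeff · 0) h)
  have hv : v * ιL Polynomial.X = ιL n := by
    simp only [v, n, κ, map_add, map_mul, RingHom.comp_apply, add_mul, mul_assoc, inv_mul_cancel₀ hs0, mul_one]
  have hv0 : v ≠ 0 := fun h => (map_ne_zero_iff _ (IsFractionRing.injective _ _)).2 hn (by rw [← hv, h, zero_mul])
  let T : Polynomial K →+* L := Polynomial.eval₂RingHom κ (ιL Polynomial.X)⁻¹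
  let S : Polynomial K →+* L := Polynomial.eval₂RingHom κ v⁻¹
  have hηι : η.comp (algebraMap (Polynomial K) A) = ιL := RingHom.ext fun p => IsLocalization.lift_eq _ p
  have key : η.comp g = S := by
    refine coord_ext K 1 ?_
    have e1 := switch K T ιL (fun r => by simp [T, κ]) (by simp [T, inv_mul_cancel₀ hs0])
    have e2 := switch K (T.comp f) S (fun r => by simp [T, S, hfC]) (by
      simp only [RingHom.comp_apply, hfX, map_add, map_mul]
      simp [T, S, v, mul_inv_cancel₀ hv0])
    rw [← e2, CommRingCat.ofHom_comp, CommRingCat.ofHom_comp, Spec.map_comp_assoc, Spec.map_comp_assoc, hg, hf]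
    simp only [ι, ← Category.assoc]
    rw [e1]
    simp only [← Spec.map_comp, ← CommRingCat.ofHom_comp, hηι]
  have hrel : g Polynomial.X * algebraMap (Polynomial K) A n = algebraMap (Polynomial K) A Polynomial.X := by
    have hinj : Function.Injective η := IsLocalization.lift_injective_iff _ |>.2 fun x y =>
      ⟨fun h => congrArg ιL (IsLocalization.injective A P.primeCompl_le_nonZeroDivisors h),
        fun h => congrArg (algebraMap _ A) (IsFractionRing.injective (Polynomial K) L h)⟩
    apply hinj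
    rw [map_mul, ← RingHom.comp_apply η g, key, ← RingHom.comp_apply η (algebraMap _ _),
      ← RingHom.comp_apply η (algebraMap _ _), hηι]
    show S Polynomial.X * ιL n = _
    rw [← hv, show S Polynomial.X = v⁻¹ from Polynomial.eval₂_X _ _, ← mul_assoc, inv_mul_cancel₀ hv0, one_mul]
  have hmod := congrArg π hrel
  rw [map_mul, hgX, ← RingHom.comp_apply π, ← RingHom.comp_apply π, hπ] at hmod
  change α Polynomial.X * α n = α Polynomial.X at hmod
  have hdvd : Polynomial.X ^ 3 ∣ Polynomial.X * n - Polynomial.X :=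
    (pow_dvd_pow _ hd).trans ((hker _).1 (by rw [map_sub, map_mul, hmod, sub_self]))
  rw [Polynomial.X_pow_dvd_iff] at hdvd
  have ha1 : a = 1 := by
    have h := hdvd 1 (by norm_num)
    simp [n, Polynomial.coeff_X_mul, sub_eq_zero] at h
    exact h
  have hb1 : b = 0 := by
    have h := hdvd 2 (by norm_num)
    simpa [n, Polynomial.coeff_X_mul, Polynomial.coeff_X] using h
  have hfid : f = RingHom.id _ := Polynomial.ringHom_ext hfC (by simp [hfX, ha1, hb1])
  rw [hfid, CommRingCat.ofHom_id, Spec.map_id, Category.id_comp] at hf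
  haveI : IsIntegral (P1 K) := GenusZeroLib.isIntegral_projSpace K 1
  haveI : IsProper (CohB1.ProjSpace.toSpec 1 K) := ProjDegLib.toSpec_isProper K 1
  haveI : IsDominant (σ K 0) := ⟨(σ K 0).isOpenEmbedding.isOpen_range.dense
    ⟨_, (IsLocalRing.closedPoint (Localization.AtPrime P) |> fun z =>
      (Spec.map (CommRingCat.ofHom (algebraMap (Polynomial K) A))).base z), rfl⟩⟩
  exact ext_of_isDominant_of_isSeparated (CohB1.ProjSpace.toSpec 1 K) (by rw [hψ, Category.id_comp]) (σ K 0)
    (by rw [← hf, Category.comp_id])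

end P1RadLib
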